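import Groth.Agent.Par.K547.Fam
import Groth.Agent.Picfga.RatPts
import Groth.Agent.Flat2B.SmoothGeom
import Groth.Agent.S3978
import Groth.Agent.S3968
import Mathlib.FieldTheory.Galois.Infinite

/-!
# Descent of parabolic subgroups from a Galois extension of the residue field, and lifting

`V` a henselian local ring with residue field `k`, `κ/k` a Galois extension with `κ` separably closed, `G` a reductive
group over `V`.  A parabolic subgroup of `G_κ` whose rational points are stable under `Gal(κ/k)` is the fibre of a parabolic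
subgroup of `G`.
-/

set_option autoImplicit false

universe u

open CategoryTheory CategoryTheory.Limits AlgebraicGeometry MonoidalCategory CartesianMonoidalCategory
  MonObj GrpObj

namespace K209.DescPar

open Groth.Agent Groth.Agent.RedSub.H647.SubPt Groth.Agent.Sga3B Groth.Agent.Sga3B.MT Groth.Agent.K547.Fam Groth.Agent.K547.HensLift

section Rational

variable {κ : Type u} [Field κ] [IsSepClosed κ] {S : Scheme.{u}} {G : Over S}

/-- Rational points are enough. -/
theorem pt_of_rational {f f' : Spec (CommRingCat.of κ) ⟶ S} (hf : f = f') {H H' : Over (Spec (CommRingCat.of κ))}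
    (h : H ⟶ Red.bc f G) (h' : H' ⟶ Red.bc f' G) [Smooth H.hom] [IsClosedImmersion h'.left]
    (hp : ∀ gm : Spec (CommRingCat.of κ) ⟶ G.left, Pt h (𝟙 _) gm → Pt h' (𝟙 _) gm)
    (X : Scheme.{u}) (y : X ⟶ Spec (CommRingCat.of κ)) (gm : X ⟶ G.left) (hy : Pt h y gm) : Pt h' y gm := by
  subst hf
  let i : pullback h.left h'.left ⟶ H.left := pullback.fst _ _
  have hred : IsReduced H.left := Groth.Agent.Flat2B.SmoothGeom.isReduced_of_smooth H.hom
  have hsurj : Surjective i := by
    rw [surjective_iff]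
    by_contra hns
    simp only [Function.Surjective, not_forall, not_exists] at hns
    obtain ⟨x, hx⟩ := hns
    let U : H.left.Opens := ⟨(Set.range i)ᶜ, i.isClosedEmbedding.isClosed_range.isOpen_compl⟩
    obtain ⟨s, hs, hsU⟩ := Picfga.RatPts.exists_section_mem H.hom U x (by
      rintro ⟨z, hz⟩
      exact hx z hz)
    obtain ⟨p, hp1, hp2⟩ := hp (s ≫ h.left ≫ pullback.fst G.hom f) ⟨s, hs, rfl⟩
    have h1 : s ≫ h.left = p ≫ h'.left := by
      apply pullback.hom_ext
      · rw [Category.assoc, Category.assoc]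
        exact hp2.symm
      · rw [Category.assoc, Category.assoc, left_snd, left_snd, hs, hp1]
    let z := pullback.lift s p h1
    have h2 : z ≫ i = s := pullback.lift_fst _ _ _
    apply hsU (IsLocalRing.closedPoint κ)
    rw [← h2]
    exact ⟨z (IsLocalRing.closedPoint κ), rfl⟩
  have hiso : IsIso i := isIso_of_isClosedImmersion_of_surjective i
  obtain ⟨p, hp1, hp2⟩ := hy
  have h3 : inv i ≫ pullback.snd h.left h'.left ≫ h'.left = h.left := by
    rw [← pullback.condition, IsIso.inv_hom_id_assoc]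
  refine ⟨p ≫ inv i ≫ pullback.snd h.left h'.left, ?_, ?_⟩
  · rw [← left_snd h', Category.assoc, Category.assoc]
    rw [reassoc_of% h3, left_snd, hp1]
  · rw [Category.assoc, Category.assoc, reassoc_of% h3, hp2]

end Rational

section Twist

variable {k κ : Type u} [Field k] [Field κ] [Algebra k κ] {S : Scheme.{u}} {G : Over S}

/-- the automorphism of `Spec κ` -/
noncomputable abbrev sp (τ : κ ≃ₐ[k] κ) : Spec (CommRingCat.of κ) ⟶ Spec (CommRingCat.of κ) :=
  Spec.map (CommRingCat.ofHom (τ : κ →+* κ))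

/-- `Spec κ ⟶ Spec k` -/
noncomputable abbrev pk (k κ : Type u) [Field k] [Field κ] [Algebra k κ] :
    Spec (CommRingCat.of κ) ⟶ Spec (CommRingCat.of k) := Spec.map (CommRingCat.ofHom (algebraMap k κ))

lemma sp_pk (τ : κ ≃ₐ[k] κ) : sp τ ≫ pk k κ = pk k κ := by
  rw [← Spec.map_comp, ← CommRingCat.ofHom_comp]
  congr 2
  ext x
  exact τ.commutes x

lemma sp_symm (τ : κ ≃ₐ[k] κ) : sp τ ≫ sp τ.symm = 𝟙 _ := by
  rw [← Spec.map_comp, ← CommRingCat.ofHom_comp]
  have : (τ : κ →+* κ).comp (τ.symm : κ →+* κ) = RingHom.id κ := by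
    ext x
    simp
  rw [this]
  exact Spec.map_id _

lemma sp_symm' (τ : κ ≃ₐ[k] κ) : sp τ.symm ≫ sp τ = 𝟙 _ := sp_symm τ.symm

/-- A subgroup whose rational points are stable is stable. -/
theorem pt_sp_iff [IsSepClosed κ] (b : Spec (CommRingCat.of k) ⟶ S) {H : Over (Spec (CommRingCat.of κ))}
    (h : H ⟶ Red.bc (pk k κ ≫ b) G) [Smooth H.hom] [IsClosedImmersion h.left]
    (hst : ∀ (τ : κ ≃ₐ[k] κ) (gm : Spec (CommRingCat.of κ) ⟶ G.left), Pt h (𝟙 _) gm → Pt h (𝟙 _) (sp τ ≫ gm))
    (τ : κ ≃ₐ[k] κ) (X : Scheme.{u}) (y : X ⟶ Spec (CommRingCat.of κ)) (gm : X ⟶ G.left) :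
    Pt h (y ≫ sp τ) gm ↔ Pt h y gm := by
  have key : ∀ (τ : κ ≃ₐ[k] κ) (X : Scheme.{u}) (y : X ⟶ Spec (CommRingCat.of κ)) (gm : X ⟶ G.left),
      Pt h y gm → Pt h (y ≫ sp τ) gm := by
    intro τ X y gm hy
    have hcl : IsClosedImmersion (bcSub (sp τ) h).left := by
      have h1 : IsClosedImmersion ((Over.pullback (sp τ)).map h).left :=
        MorphismProperty.overPullbackMap (P := @IsClosedImmersion) _ h inferInstance
      have h2 : IsIso ((Over.pullbackComp (sp τ) (pk k κ ≫ b)).inv.app G).left :=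
        (Over.forget _).map_isIso ((Over.pullbackComp (sp τ) (pk k κ ≫ b)).inv.app G)
      rw [bcSub, Over.comp_left]
      infer_instance
    rw [← pt_bcSub]
    refine pt_of_rational (f' := sp τ ≫ pk k κ ≫ b) (by rw [← Category.assoc, sp_pk]) h (bcSub (sp τ) h) ?_ X y gm hy
    intro gm hgm
    rw [pt_bcSub, Category.id_comp]
    have h1 := (hst τ.symm gm hgm).comp (sp τ)
    rwa [Category.comp_id, ← Category.assoc, sp_symm, Category.id_comp] at h1
  refine ⟨fun hy => ?_, key τ X y gm⟩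
  have h1 := key τ.symm X _ gm hy
  rwa [Category.assoc, sp_symm, Category.comp_id] at h1

/-- Descent of points along a Galois extension. -/
theorem exists_descent [IsGalois k κ] {M : Scheme.{u}} (g : Spec (CommRingCat.of κ) ⟶ M)
    (hg : ∀ τ : κ ≃ₐ[k] κ, sp τ ≫ g = g) : ∃ g₁ : Spec (CommRingCat.of k) ⟶ M, pk k κ ≫ g₁ = g := by
  let m : M := g (IsLocalRing.closedPoint κ)
  let φ : M.residueField m ⟶ CommRingCat.of κ := M.descResidueField (Scheme.stalkClosedPointTo g)
  have hφ : Spec.map φ ≫ M.fromSpecResidueField m = g :=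
    Scheme.descResidueField_stalkClosedPointTo_fromSpecResidueField κ M g
  have h1 : ∀ (τ : κ ≃ₐ[k] κ) (x : M.residueField m), τ (φ.hom x) = φ.hom x := by
    intro τ x
    have h2 : sp τ ≫ Spec.map φ = Spec.map φ := by
      rw [← cancel_mono (M.fromSpecResidueField m), Category.assoc, hφ, hg]
    rw [← Spec.map_comp] at h2
    exact congr(($(Spec.map_injective h2)).hom x)
  have h2 : ∀ x : M.residueField m, φ.hom x ∈ (algebraMap k κ).range := by
    intro x
    have h3 : φ.hom x ∈ (⊥ : IntermediateField k κ) :=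
      (InfiniteGalois.mem_bot_iff_fixed _).2 fun τ => h1 τ x
    rw [IntermediateField.mem_bot] at h3
    exact h3
  let r : k ≃+* (algebraMap k κ).range :=
    RingEquiv.ofBijective (algebraMap k κ).rangeRestrict
      ⟨fun x y h => (algebraMap k κ).injective (congrArg Subtype.val h), (algebraMap k κ).rangeRestrict_surjective⟩
  let ψ : M.residueField m →+* k := (r.symm : _ →+* k).comp (φ.hom.codRestrict _ h2)
  have hψ : ∀ x, algebraMap k κ (ψ x) = φ.hom x := by
    intro x
    have h3 := r.apply_symm_apply (φ.hom.codRestrict _ h2 x)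
    exact congrArg Subtype.val h3
  refine ⟨Spec.map (CommRingCat.ofHom ψ) ≫ M.fromSpecResidueField m, ?_⟩
  rw [← Category.assoc, ← Spec.map_comp, ← hφ]
  congr 2
  ext x
  exact hψ x

end Twist

section Main

variable {V : Type u} [CommRing V] [HenselianLocalRing V] {κ : Type u} [Field κ]
  [Algebra (IsLocalRing.ResidueField V) κ]

/-- **Descent and lifting of parabolic subgroups.** -/
theorem exists_parabolic [IsGalois (IsLocalRing.ResidueField V) κ] [IsSepClosed κ]
    (G : Over (Spec (CommRingCat.of V))) [GrpObj G] (hG : Red.IsReductive G)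
    (b : Spec (CommRingCat.of κ) ⟶ Spec (CommRingCat.of V))
    (hb : b = pk (IsLocalRing.ResidueField V) κ ≫ cl V)
    {P₀ : Over (Spec (CommRingCat.of κ))} [GrpObj P₀]
    (p₀ : P₀ ⟶ Red.bc b G) (hp₀ : Red.IsParabolic p₀)
    (hst : ∀ (τ : κ ≃ₐ[IsLocalRing.ResidueField V] κ) (gm : Spec (CommRingCat.of κ) ⟶ G.left),
      Pt p₀ (𝟙 _) gm → Pt p₀ (𝟙 _) (sp τ ≫ gm)) :
    ∃ (P : Over (Spec (CommRingCat.of V))) (_ : GrpObj P) (p : P ⟶ G), Red.IsParabolic p ∧
      ∃ e : Red.bc b P ≅ P₀, e.hom ≫ p₀ = (Over.pullback _).map p := by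
  subst hb
  obtain ⟨M, H, _, h, ⟨hh, huniv⟩, hMs, -, -⟩ := Groth.Agent.S3978.result G hG
  have hcl : IsClosedImmersion h.left :=
    (Groth.Agent.S3968.result (RedBcAny636.isReductive_bc M.hom hG) h hh).1
  obtain ⟨g₀, ⟨hg₀, hs⟩, huq⟩ := huniv _ _ P₀ p₀ (isParabolicSub_of_isParabolic hp₀)
  have hsm : Smooth P₀.hom := hp₀.2.2.1
  have hcl₀ : IsClosedImmersion p₀.left := hp₀.2.1
  have hfix : ∀ τ : κ ≃ₐ[IsLocalRing.ResidueField V] κ, sp τ ≫ g₀ = g₀ := by
    intro τ
    apply huq
    refine ⟨by rw [Category.assoc, hg₀, ← Category.assoc, sp_pk], ?_⟩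
    rw [samePoints_iff] at hs ⊢
    intro X y gm
    rw [← Category.assoc, ← hs, pt_sp_iff _ p₀ hst]
  obtain ⟨g₁, hg₁⟩ := exists_descent g₀ hfix
  have hg₁' : g₁ ≫ M.hom = cl V := by
    have h1 : pk (IsLocalRing.ResidueField V) κ ≫ g₁ ≫ M.hom = pk (IsLocalRing.ResidueField V) κ ≫ cl V := by
      rw [← Category.assoc, hg₁, hg₀]
    obtain ⟨φ, hφ⟩ := Spec.map_surjective (g₁ ≫ M.hom)
    rw [← hφ] at h1 ⊢
    change Spec.map _ ≫ _ = Spec.map _ ≫ Spec.map _ at h1
    rw [← Spec.map_comp, ← Spec.map_comp] at h1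
    have h2 := Spec.map_injective h1
    change Spec.map φ = Spec.map _
    congr 1
    ext x
    apply (algebraMap (IsLocalRing.ResidueField V) κ).injective
    exact congr(($h2).hom x)
  obtain ⟨g, hg, hgg⟩ := exists_section M.hom g₁ hg₁'
  obtain ⟨P, _, p, hp, hpt⟩ := exists_sub hG h hh hcl g hg
  refine ⟨P, inferInstance, p, hp, ?_⟩
  refine exists_iso_of_samePoints hp hpt _ hp₀ ?_
  rwa [Category.assoc, hgg, hg₁]

end Main

end K209.DescPar
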