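import Mathlib.AlgebraicGeometry.Morphisms.Affine
import Mathlib.RingTheory.Localization.FractionRing

/-!
# Points over `K` and `W` agreeing over `L` give points over `V = W ∩ K`
-/

set_option autoImplicit false

universe u

open CategoryTheory CategoryTheory.Limits AlgebraicGeometry

namespace K209.Glue

/-- Gluing sections of affine schemes. -/
theorem exists_section {V K W L : Type u} [CommRing V] [CommRing K] [CommRing W] [CommRing L]
    (i : V →+* K) (hi : Function.Injective i) (j : W →+* L) (φ : K →+* L)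
    (hVW : ∀ (x : K) (w : W), φ x = j w → ∃ v : V, i v = x)
    {X : Scheme.{u}} (f : X ⟶ Spec (CommRingCat.of V)) [IsAffineHom f]
    (x : Spec (CommRingCat.of K) ⟶ X) (x₁ : Spec (CommRingCat.of W) ⟶ X)
    (hx : x ≫ f = Spec.map (CommRingCat.ofHom i))
    (h : Spec.map (CommRingCat.ofHom φ) ≫ x = Spec.map (CommRingCat.ofHom j) ≫ x₁) :
    ∃ s : Spec (CommRingCat.of V) ⟶ X, s ≫ f = 𝟙 _ := by
  have haff : IsAffine X := isAffine_of_isAffineHom f
  -- replace `X` by an affine scheme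
  obtain ⟨A, ⟨e⟩⟩ : ∃ A : CommRingCat.{u}, Nonempty (X ≅ Spec A) := ⟨_, ⟨X.isoSpec⟩⟩
  obtain ⟨α, hα⟩ := Spec.map_surjective (x ≫ e.hom)
  obtain ⟨β, hβ⟩ := Spec.map_surjective (x₁ ≫ e.hom)
  obtain ⟨γ, hγ⟩ := Spec.map_surjective (e.inv ≫ f)
  have h1 : α ≫ CommRingCat.ofHom φ = β ≫ CommRingCat.ofHom j := by
    apply Spec.map_injective
    rw [Spec.map_comp, Spec.map_comp, hα, hβ, ← Category.assoc, h, Category.assoc]
  have h2 : γ ≫ α = CommRingCat.ofHom i := by
    apply Spec.map_injective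
    rw [Spec.map_comp, hα, hγ, Category.assoc, Iso.hom_inv_id_assoc, hx]
  have h3 : ∀ a : A, α.hom a ∈ i.range := by
    intro a
    obtain ⟨v, hv⟩ := hVW (α.hom a) (β.hom a) congr(($h1).hom a)
    exact ⟨v, hv⟩
  let r : V ≃+* i.range := RingEquiv.ofBijective i.rangeRestrict
      ⟨fun x y h => hi (congrArg Subtype.val h), i.rangeRestrict_surjective⟩
  let ψ : A →+* V := (r.symm : _ →+* V).comp (α.hom.codRestrict _ h3)
  have hψ : ∀ a, i (ψ a) = α.hom a := by
    intro a
    have h4 := r.apply_symm_apply (α.hom.codRestrict _ h3 a)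
    exact congrArg Subtype.val h4
  refine ⟨Spec.map (CommRingCat.ofHom ψ) ≫ e.inv, ?_⟩
  rw [Category.assoc, ← hγ, ← Spec.map_comp, ← Spec.map_id]
  congr 1
  ext v
  apply hi
  change i (ψ (γ.hom v)) = i v
  rw [hψ]
  exact congr(($h2).hom v)

end K209.Glue
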