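import Groth.Agent.NonAbH1.K209.TorWt
import Groth.Agent.RedSub.K209.CartanSch
import Groth.Agent.Sga3B.Par.ConjDyn895
import Groth.Agent.Sga3B.Parab.DynBc998

/-!
# Integral points conjugated by a rational point, over a valuation ring of rank one

`W` a valuation ring of rank one with infinite residue field `κ` and fraction field `L`, `G` a split reductive group over `W`,
`h ∈ G(L)`.  There is a cocharacter `λ` of `G` such that `G(W) ∩ h G(W) h⁻¹` reduces into `P_G(λ)(κ)`, and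
`P_G(λ)(W) ⊆ h G(W) h⁻¹`; if `λ` is trivial on the special fibre then `h ∈ G(W)`.
-/

set_option autoImplicit false
set_option linter.unusedSectionVars false

universe u

open CategoryTheory MonoidalCategory CartesianMonoidalCategory MonObj GrpObj AlgebraicGeometry Limits
open Groth.Agent.Sga3B Groth.Agent.Sga3B.Parab
open Groth.Agent.Sga3B.Parab.OrbM156 Groth.Agent.Sga3B.Cell Groth.Agent.Sga3B.PinMod
open Groth.Agent.Sga3B.Par.ConjDyn895 Groth.Agent.RedSub.H660.Iwasawa Groth.Agent.Sga3B.DSPts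

namespace K209.LocalMain

open K209.RealVal K209.TorWt

section Conj

variable {S : Scheme.{u}} {G : Over S} [GrpObj G]

/-- the conjugate of a cocharacter by a section -/
noncomputable def conj (w : 𝟙_ (Over S) ⟶ G) (lam : Red.Gm S ⟶ G) : Red.Gm S ⟶ G :=
  (toUnit _ ≫ w) * lam * (toUnit _ ≫ w)⁻¹

lemma isConj (w : 𝟙_ (Over S) ⟶ G) (lam : Red.Gm S ⟶ G) : IsConj lam w (conj w lam) := by
  intro X t
  rw [conj, MonObj.comp_mul, MonObj.comp_mul, GrpObj.comp_inv, ← Category.assoc, comp_toUnit]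

lemma isMonHom_conj (w : 𝟙_ (Over S) ⟶ G) (lam : Red.Gm S ⟶ G) [IsMonHom lam] : IsMonHom (conj w lam) := by
  apply Pts.isMonHom_of_points
  intro X x y
  rw [isConj w lam, isConj w lam, isConj w lam, MonObj.mul_comp]
  group

end Conj

section Triv

variable {S : Scheme.{u}} {G : Over S} [GrpObj G] {M : Type} [AddCommGroup M] (J : Red.DS S M ⟶ G)
  [IsMonHom J] [Mono J]

/-- If a conjugate of `J ∘ ν` is trivial after a base change to a non-trivial ring then `ν = 0`. -/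
theorem nu_eq_zero {C : Type u} [CommRing C] [Nontrivial C] (r : Spec (CommRingCat.of C) ⟶ S) (ν : M →+ ℤ)
    (w : 𝟙_ (Over S) ⟶ G) (h : bcLam (conj w (lamN J ν)) r = 1) : ν = 0 := by
  have h1 := DynBc998.dn_tPt r (c := 𝟙 (Spec (CommRingCat.of C))) (conj w (lamN J ν))
  rw [h, MonObj.comp_one, map_one] at h1
  rw [isConj w (lamN J ν)] at h1
  have h2 : tPt C (𝟙 _ ≫ r) ≫ lamN J ν = 1 := by
    have h3 := h1.symm
    rwa [mul_inv_eq_one, mul_eq_left] at h3
  rw [lamN, ← Category.assoc] at h2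
  have h3 : tPt C (𝟙 _ ≫ r) ≫ Red.DSmap S ν = 1 := by
    rw [← cancel_mono J, h2, MonObj.one_comp]
  rw [tPt_DSmap] at h3
  have h4 := (DSPts.dsEquiv _ M).injective (h3.trans (map_one _).symm)
  ext m
  have h5 := DFunLike.congr_fun h4 (Multiplicative.ofAdd m)
  have h6 := (ConcreteCategory.bijective_of_isIso
    (Scheme.ΓSpecIso (CommRingCat.of (LaurentPolynomial C))).inv).1
  have h7 : (LaurentPolynomial.T (ν m) : LaurentPolynomial C) = 1 := by
    apply h6
    refine Eq.trans ?_ (map_one (Scheme.ΓSpecIso (CommRingCat.of (LaurentPolynomial C))).inv.hom).symm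
    exact h5
  rw [← LaurentPolynomial.T_zero] at h7
  by_contra hne
  have h8 := congrArg (fun f : LaurentPolynomial C => f.coeff (ν m)) h7
  simp only [LaurentPolynomial.T, AddMonoidAlgebra.coeff_single] at h8
  rw [Finsupp.single_eq_same, Finsupp.single_eq_of_ne (Ne.symm (fun h => hne (by simpa using h.symm)))] at h8
  exact one_ne_zero h8

end Triv

variable {W : Type u} [CommRing W] [IsDomain W] [ValuationRing W] {L : Type u} [Field L] [Algebra W L]
  [IsFractionRing W L] {G : Over (Spec (CommRingCat.of W))} [GrpObj G]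

/-- `Spec L ⟶ Spec W` -/
noncomputable abbrev iL (W L : Type u) [CommRing W] [CommRing L] [Algebra W L] :
    tB (𝟙 (Spec (CommRingCat.of W))) L ⟶ tB (𝟙 (Spec (CommRingCat.of W))) W :=
  tMap (𝟙 _) (Algebra.ofId W L)

/-- the structure map of `tB 𝟙 W` is an isomorphism -/
noncomputable def unI : tB (𝟙 (Spec (CommRingCat.of W))) W ≅ 𝟙_ (Over (Spec (CommRingCat.of W))) :=
  Over.isoMk (Iso.refl _) (by
    change 𝟙 _ ≫ 𝟙 _ = Spec.map (𝟙 _) ≫ 𝟙 _
    rw [Spec.map_id])

/-- **The local theorem.** -/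
theorem local_main [Infinite (IsLocalRing.ResidueField W)] (D : Red.SplitRed G) (hW : Arch W)
    (h : tB (𝟙 (Spec (CommRingCat.of W))) L ⟶ G) :
    ∃ lam : Red.Gm (Spec (CommRingCat.of W)) ⟶ G, IsMonHom lam ∧
      (∀ g g' : tB (𝟙 (Spec (CommRingCat.of W))) W ⟶ G, iL W L ≫ g' = h⁻¹ * (iL W L ≫ g) * h →
        PtP lam (iL W (IsLocalRing.ResidueField W) ≫ g)) ∧
      (∀ g : tB (𝟙 (Spec (CommRingCat.of W))) W ⟶ G, PtP lam g →
        ∃ g' : tB (𝟙 (Spec (CommRingCat.of W))) W ⟶ G, iL W L ≫ g' = h⁻¹ * (iL W L ≫ g) * h) ∧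
      (bcLam lam (Spec.map (CommRingCat.ofHom (IsLocalRing.residue W))) = 1 →
        ∃ g : tB (𝟙 (Spec (CommRingCat.of W))) W ⟶ G, iL W L ≫ g = h) := by
  have hGa : IsAffineHom G.hom := D.reductive.1
  have hGs : Smooth G.hom := D.reductive.2.1
  have hJ : IsMonHom (Chart.j D) := Chart.isMonHom_j D
  have hJm : Mono (Chart.j D) := inferInstance
  obtain ⟨k₁, k₂, t, ht⟩ := CartanSch.cartan_split D (𝟙 (Spec (CommRingCat.of W))) (V := W) h
  obtain ⟨ν, h1, h2, h3⟩ := torus_main (Chart.j D) hW t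
  have ht' : h = (iL W L ≫ k₁) * jt (Chart.j D) t * (iL W L ≫ k₂) := ht
  obtain ⟨w, hw⟩ : ∃ w : 𝟙_ (Over (Spec (CommRingCat.of W))) ⟶ G, toUnit _ ≫ w = k₁ := by
    refine ⟨unI.inv ≫ k₁, ?_⟩
    have : toUnit _ = (unI (W := W)).hom := toUnit_unique _ _
    rw [this, Iso.hom_inv_id_assoc]
  have hwB : ∀ (B : Type u) [CommRing B] [Algebra W B],
      toUnit (tB (𝟙 (Spec (CommRingCat.of W))) B) ≫ w = iL W B ≫ k₁ := by
    intro B _ _
    rw [← hw, ← Category.assoc, comp_toUnit]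
  refine ⟨conj w (lamN (Chart.j D) ν), isMonHom_conj _ _, ?_, ?_, ?_⟩
  · intro g g' hg
    rw [ptP_conj_iff (isConj w _), Dyn998.ptP_iff, cj, hwB]
    have h4 := h1 (k₁⁻¹ * g * k₁) (k₂ * g' * k₂⁻¹) (by
      simp only [MonObj.comp_mul, GrpObj.comp_inv]
      rw [hg, ht']
      group)
    simp only [MonObj.comp_mul, GrpObj.comp_inv] at h4
    exact h4
  · intro g hg
    rw [ptP_conj_iff (isConj w _), cj, hw] at hg
    obtain ⟨g', hg'⟩ := h2 _ (Dyn998.ptP_iff.1 hg)
    refine ⟨k₂⁻¹ * g' * k₂, ?_⟩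
    simp only [MonObj.comp_mul, GrpObj.comp_inv] at hg' ⊢
    rw [hg', ht']
    group
  · intro hb
    obtain ⟨t', ht''⟩ := h3 (nu_eq_zero (Chart.j D) _ ν w hb)
    refine ⟨k₁ * jt (Chart.j D) t' * k₂, ?_⟩
    rw [MonObj.comp_mul, MonObj.comp_mul, ht']
    congr 2
    rw [jt, ← Category.assoc, tMap_dsEquiv, jt]
    congr 3
    ext m
    exact ht'' m

end K209.LocalMain
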