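import Groth.Agent.Sga3B.RootFinal136
import Groth.Agent.Sga3B.Parab.SplitMax128
import Groth.Agent.Sga3B.MaxTorBc636
import Groth.Agent.Sga3B.TorusBc
import Groth.Agent.Pi1C.StrictHensPoint
import Groth.Agent.Sga3B.IsomHa505
import Groth.Agent.Sga3B.RedBcAny636

/-!
# Reductive groups over strictly henselian local rings are split
-/

set_option autoImplicit false
universe u

open CategoryTheory MonoidalCategory CartesianMonoidalCategory MonObj GrpObj AlgebraicGeometry

namespace K209.SplitSH

open Groth.Agent Groth.Agent.Sga3B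

/-- **Reductive groups over strictly henselian local rings are split.** -/
theorem exists_splitRed (R : Type u) [CommRing R] [IsDomain R] [HenselianLocalRing R] [IsSepClosed (IsLocalRing.ResidueField R)]
    (G : Over (Spec (CommRingCat.of R))) [GrpObj G] (hG : Red.IsReductive G) :
    Nonempty (Red.SplitRed G) := by
  let s : Spec (CommRingCat.of R) := IsLocalRing.closedPoint R
  obtain ⟨B, _, v, hv, ⟨p, hp⟩, T, _, i, hi, r, hr⟩ :=
    Parab.SplitMax128.exists_split_maximalTorus hG s
  obtain ⟨t, ht, -⟩ := Pi1C.StrictHensPoint.exists_lift_of_etale v p R (𝟙 _) (by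
    rw [hp]; rfl)
  obtain ⟨e⟩ := hr
  have h2 : Nonempty (Grp.mk (Red.bc t T) ≅ Grp.mk (Red.DS (Spec (CommRingCat.of R)) (Fin r → ℤ))) :=
    Sga3B.TorusAlgClosed.isSplitTorusWith_bc t ⟨e⟩
  have h3 := MaxTorBc636.isMaximalTorus_bc t (RedBcAny636.isReductive_bc v hG) hi
  let f : Grp.mk (Red.bc t (Red.bc v G)) ≅ Grp.mk G :=
    ((Sga3B.BcIso.bcIdIso G).symm ≪≫ Sga3B.BcIso.bcCongrIso ht.symm G ≪≫
    Sga3B.BcIso.bcCompIso t v G).symm
  have h4 := IsomHa505.isMaximalTorus_comp_iso f h3
  have : Subsingleton (CommRing.Pic R) := inferInstance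
  have : PreconnectedSpace (PrimeSpectrum R) := inferInstance
  obtain ⟨D, -⟩ := RootFinal136.exists_splitRed hG _ h4 h2
  exact ⟨D⟩

end K209.SplitSH
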