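import Groth.Agent.NonAbH1.K209.Cocycle
import Groth.Agent.NonAbH1.K209.DescPar
import Groth.Agent.NonAbH1.K209.LocalMain
import Groth.Agent.NonAbH1.K209.Glue
import Groth.Agent.NonAbH1.K209.SplitSH
import Groth.Agent.NonAbH1.K553.FinConn
import Groth.Agent.Red.K672.AnisoPar
import Groth.Agent.RedSub.K199.CentSS
import Groth.Agent.RedSub.K199.SubCor
import Groth.Agent.RedSub.H671.LeviTriv
import Groth.Agent.Par.K545.LeviCent
import Groth.Agent.AGF.K501.BcPts

/-!
# Torsors under anisotropic semisimple groups over henselian valuation rings of rank one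
-/

set_option autoImplicit false
set_option linter.unusedSectionVars false

universe u

open CategoryTheory CategoryTheory.Limits MonoidalCategory CartesianMonoidalCategory MonObj GrpObj AlgebraicGeometry
open K551.Tors Groth.Agent Groth.Agent.Sga3B Groth.Agent.Sga3B.MT Groth.Agent.Sga3B.PinMod Groth.Agent.Sga3B.Parab Groth.Agent.Books.BorelOrb

namespace K209.AnisoVal

open K209.RealVal K209.SH K209.Cocycle K209.DescPar K209.LocalMain K209.Glue
open Groth.Agent.RedSub.H647.SubPt Groth.Agent.K547.HensLift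

section Special

variable {V W : Type u} [CommRing V] [IsDomain V] [ValuationRing V] [HenselianLocalRing V]
  [CommRing W] [IsLocalRing W] [Algebra V W] [IsLocalHom (algebraMap V W)]

/-- `Spec κ ⟶ Spec W` -/
noncomputable abbrev rr (W : Type u) [CommRing W] [IsLocalRing W] :
    Spec (CommRingCat.of (IsLocalRing.ResidueField W)) ⟶ Spec (CommRingCat.of W) :=
  Spec.map (CommRingCat.ofHom (IsLocalRing.residue W))

lemma rr_cW : rr W ≫ cW V W = pk (IsLocalRing.ResidueField V) (IsLocalRing.ResidueField W) ≫ cl V := by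
  change Spec.map _ ≫ Spec.map _ = Spec.map _ ≫ Spec.map _
  rw [← Spec.map_comp, ← Spec.map_comp]
  rfl

end Special

section Pts

variable {V W : Type u} [CommRing V] [CommRing W] [Algebra V W] {G : Over (Spec (CommRingCat.of V))} [GrpObj G]

/-- points of `G` and of `G_W` -/
noncomputable abbrev E (V W : Type u) [CommRing V] [CommRing W] [Algebra V W]
    (G : Over (Spec (CommRingCat.of V))) [GrpObj G] (B : Type u) [CommRing B] [Algebra W B] :
    (oB V W B ⟶ G) ≃* (tB (𝟙 (Spec (CommRingCat.of W))) B ⟶ Red.bc (cW V W) G) :=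
  DSPts.bcEquiv (cW V W) (tB (𝟙 _) B) G

lemma E_nat {B : Type u} [CommRing B] [Algebra W B] (g : oB V W W ⟶ G) :
    iL W B ≫ E V W G W g = E V W G B (oI V W B ≫ g) :=
  DSPts.bcEquiv_naturality _ _ _ _

lemma E_symm_nat {B : Type u} [CommRing B] [Algebra W B] (g : tB (𝟙 (Spec (CommRingCat.of W))) W ⟶ Red.bc (cW V W) G) :
    oI V W B ≫ (E V W G W).symm g = (E V W G B).symm (iL W B ≫ g) :=
  DSPts.bcEquiv_symm_naturality _ _ _ _

end Pts

section Kappa

variable {V W : Type u} [CommRing V] [CommRing W] [Algebra V W] [HenselianLocalRing W]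
  {L : Type u} [Field L] [Algebra W L]
  {G : Over (Spec (CommRingCat.of V))} [GrpObj G]

/-- The points of the special fibre of the parabolic subgroup. -/
theorem pt_iff_Q {lam : Red.Gm (Spec (CommRingCat.of W)) ⟶ Red.bc (cW V W) G}
    {P : Over (Spec (CommRingCat.of W))} [GrpObj P] {p : P ⟶ Red.bc (cW V W) G} (hp : IsDynP lam p) [Smooth P.hom]
    (h : oB V W L ⟶ G)
    (h1 : ∀ g g' : tB (𝟙 (Spec (CommRingCat.of W))) W ⟶ Red.bc (cW V W) G,
      iL W L ≫ g' = (E V W G L h)⁻¹ * (iL W L ≫ g) * (E V W G L h) → PtP lam (iL W (IsLocalRing.ResidueField W) ≫ g))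
    (h2 : ∀ g : tB (𝟙 (Spec (CommRingCat.of W))) W ⟶ Red.bc (cW V W) G, PtP lam g →
        ∃ g' : tB (𝟙 (Spec (CommRingCat.of W))) W ⟶ Red.bc (cW V W) G,
          iL W L ≫ g' = (E V W G L h)⁻¹ * (iL W L ≫ g) * (E V W G L h))
    (gm : Spec (CommRingCat.of (IsLocalRing.ResidueField W)) ⟶ G.left) : Pt p (rr W) gm ↔ Q h gm := by
  constructor
  · rintro ⟨z, hz, hz'⟩
    obtain ⟨z₁, hz₁, hz₁'⟩ := exists_section P.hom z hz
    let y : tB (𝟙 (Spec (CommRingCat.of W))) W ⟶ P := Over.homMk z₁ (by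
      rw [hz₁]
      change 𝟙 _ = Spec.map (𝟙 _) ≫ 𝟙 _
      rw [Spec.map_id, Category.comp_id])
    obtain ⟨g', hg'⟩ := h2 (y ≫ p) ((hp.iff_ptP _ _).1 ⟨y, rfl⟩)
    refine ⟨(E V W G W).symm (y ≫ p), (E V W G W).symm g', ?_, ?_⟩
    · rw [E_symm_nat, DSPts.bcEquiv_symm_left, Over.comp_left, Over.comp_left, ← hz', ← hz₁']
      simp only [Category.assoc]
      rfl
    · rw [E_symm_nat, E_symm_nat, hg', map_mul, map_mul, map_inv, MulEquiv.symm_apply_apply]
  · rintro ⟨g, g', hg, hg'⟩
    have h3 := h1 (E V W G W g) (E V W G W g') (by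
      rw [E_nat, E_nat, hg', map_mul, map_mul, map_inv])
    rw [← hp.iff_ptP] at h3
    obtain ⟨z, hz⟩ := h3
    refine ⟨z.left, ?_, ?_⟩
    · rw [Over.w z]
      exact Category.comp_id _
    · rw [← hg, ← DSPts.bcEquiv_fst, ← DSPts.bcEquiv_naturality, ← hz, Over.comp_left, Category.assoc]

end Kappa

section Central

/-- For a semisimple group `P_G(λ) = G` forces `λ = 1`. -/
theorem lam_eq_one {κ : Type u} [Field κ] {G P : Over (Spec (CommRingCat.of κ))} [GrpObj G] [GrpObj P]
    (hG : Red.IsSemisimple G) {lam : Red.Gm (Spec (CommRingCat.of κ)) ⟶ G} [IsMonHom lam] {p : P ⟶ G}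
    (hp : IsDynP lam p) [IsIso p] : lam = 1 := by
  have hGr := K199.SubCor.isReductive_of_isSemisimple hG
  obtain ⟨U, Z, _, _, u, z, -, hz, -, -, hl⟩ := K545.Dyn.of_isDynP hGr hp
  have := hp.isMonHom
  apply K199.CentSS.eq_one hG (K545.LeviCent.isTorus_Gm _) lam
  intro X x g
  obtain ⟨a, ha⟩ := RedSub.H671.LeviTriv.exists_factor_levi hGr p hl g
  have h1 := (hz.iff_ptZ X g).1 ⟨a, ha⟩
  rw [DynExist998.ptZ_iff_centralizes] at h1
  have h2 := h1 X (𝟙 _) x
  rw [Category.id_comp] at h2
  exact h2.symm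

end Central

section ResLift

variable {V W : Type u} [CommRing V] [IsLocalRing V] [CommRing W] [IsLocalRing W] [Algebra V W]
  [IsLocalHom (algebraMap V W)]

/-- the lift to the residue field -/
noncomputable def lK (σ : W ≃ₐ[V] W) (τ : IsLocalRing.ResidueField W ≃ₐ[IsLocalRing.ResidueField V] IsLocalRing.ResidueField W)
    (hσ : ∀ x, IsLocalRing.residue W (σ x) = τ (IsLocalRing.residue W x)) : Lift σ (IsLocalRing.ResidueField W) where
  s := (τ : IsLocalRing.ResidueField W →+* IsLocalRing.ResidueField W)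
  hs w := (hσ w).symm

lemma lK_left (σ : W ≃ₐ[V] W) (τ : IsLocalRing.ResidueField W ≃ₐ[IsLocalRing.ResidueField V] IsLocalRing.ResidueField W)
    (hσ : ∀ x, IsLocalRing.residue W (σ x) = τ (IsLocalRing.residue W x)) : (lK σ τ hσ).m.left = sp τ := rfl

end ResLift

section Main

variable {V : Type u} [CommRing V] [IsDomain V] [ValuationRing V] [HenselianLocalRing V]

/-- The conjugating element is integral. -/
theorem exists_integral {W : Type u} [CommRing W] [IsDomain W] [ValuationRing W] [HenselianLocalRing W] [Algebra V W]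
    [IsLocalHom (algebraMap V W)] [Hensel.IsStrictHenselization V W] (hW : Arch W)
    {L : Type u} [Field L] [Algebra W L] [IsFractionRing W L]
    (G : Over (Spec (CommRingCat.of V))) [GrpObj G] (hG : Red.IsSemisimple G)
    (han : ∀ (i : Red.Gm (Spec (CommRingCat.of V)) ⟶ G) [IsMonHom i], ¬ Mono i)
    (h : oB V W L ⟶ G) (hs : Stab h) : ∃ g : oB V W W ⟶ G, oI V W L ≫ g = h := by
  have hsep : IsSepClosure (IsLocalRing.ResidueField V) (IsLocalRing.ResidueField W) :=
    Hensel.IsStrictHenselization.isSepClosure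
  have hsc : IsSepClosed (IsLocalRing.ResidueField W) := hsep.sep_closed
  have hgal : IsGalois (IsLocalRing.ResidueField V) (IsLocalRing.ResidueField W) := IsSepClosure.isGalois
  have hinf : Infinite (IsLocalRing.ResidueField W) := K501.BcPts.infinite_of_isSepClosed _
  have hGr : Red.IsReductive G := K199.SubCor.isReductive_of_isSemisimple hG
  have hGa : IsAffineHom G.hom := hGr.1
  have hGs : Smooth G.hom := hGr.2.1
  have hGW : Red.IsReductive (Red.bc (cW V W) G) := RedBcAny636.isReductive_bc _ hGr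
  obtain ⟨D⟩ := SplitSH.exists_splitRed W (Red.bc (cW V W) G) hGW
  obtain ⟨lam, hlam, h1, h2, h3⟩ := local_main D hW (E V W G L h)
  obtain ⟨P', U, Z, _, _, _, p', u, z, hp', -, -, hpar, -, -⟩ := K545.Dyn.exists_all hGW lam
  have hP's : Smooth P'.hom := hpar.2.2.1
  have hp'cl : IsClosedImmersion p'.left := hpar.2.1
  have key : ∀ gm, Pt p' (rr W) gm ↔ Q h gm := pt_iff_Q hp' h h1 h2
  -- the special fibre
  have hpar₀ : Red.IsParabolic ((Over.pullback (rr W)).map p') := RedSub.H648.BorBc.isParabolic_bc (rr W) hGW hpar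
  have hp₀ : Red.IsParabolic (bcSub (rr W) p') :=
    AlgBc.isParabolic_of_arrow (Iso.refl _) (BcIso.bcCompIso (rr W) (cW V W) G).symm (by
      rw [RedSub.H648.BorBc.und_refl, Category.id_comp, bcSub]
      congr 1) hpar₀
  obtain ⟨P, _, p, hp, e, he⟩ := exists_parabolic G hGr (rr W ≫ cW V W) rr_cW (bcSub (rr W) p') hp₀ (by
    intro τ gm hgm
    rw [pt_bcSub, Category.id_comp, key] at hgm ⊢
    obtain ⟨σ, hσ⟩ := Groth.Agent.Sga7.H516.SHBasic.exists_algEquiv (R := V) (R' := W) τ
    have h5 := hgm.stable hs (lL σ L) (lK σ τ hσ)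
    rwa [lK_left] at h5)
  have hiso : IsIso p := by
    by_contra hni
    obtain ⟨l, hl, hlp⟩ := K545.Dyn.exists_cochar hGr hp
    obtain ⟨i, hi, him⟩ := K672.AnisoPar.exists_mono_of_ne_one l (by
      rintro rfl
      exact hni (K672.AnisoPar.isIso_of_isDynP_one hlp))
    exact han i him
  have hiso' : IsIso (bcSub (rr W) p') := by
    have h4 : IsIso ((Over.pullback (rr W ≫ cW V W)).map p) := inferInstance
    rw [← he] at h4
    exact IsIso.of_isIso_comp_left e.hom _
  have hiso'' : IsIso ((Over.pullback (rr W)).map p') := by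
    have h5 : IsIso ((Over.pullback (rr W)).map p' ≫ (Over.pullbackComp (rr W) (cW V W)).inv.app G) := hiso'
    exact IsIso.of_isIso_comp_right _ ((Over.pullbackComp (rr W) (cW V W)).inv.app G)
  have h6 : bcLam lam (rr W) = 1 := by
    refine lam_eq_one ?_ (IsDynP.bc (rr W) hp')
    exact RedBcAny636.isSemisimple_bc _ (RedBcAny636.isSemisimple_bc _ hG)
  obtain ⟨g, hg⟩ := h3 h6
  refine ⟨(E V W G W).symm g, ?_⟩
  rw [E_symm_nat, hg, MulEquiv.symm_apply_apply]

/-- étale torsors have points over strict henselizations -/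
theorem exists_point {W : Type u} [CommRing W] [HenselianLocalRing W] [IsSepClosed (IsLocalRing.ResidueField W)]
    [Algebra V W] {X : Over (Spec (CommRingCat.of V))}
    (hX : NonAbH1.IsLocallyTrivialFor Scheme.etalePrecoverage X) : ∃ s : Spec (CommRingCat.of W) ⟶ X.left,
      s ≫ X.hom = cW V W := by
  obtain ⟨R, hR, hsec⟩ := hX
  obtain ⟨Y, g, hg, hs⟩ := hR.1 (cW V W (IsLocalRing.closedPoint W))
  obtain ⟨hg⟩ := hg
  obtain ⟨z, hz⟩ := hs
  obtain ⟨σ, hσ⟩ := hsec _ hg
  have het : Etale _ := hR.2 hg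
  obtain ⟨t, ht, -⟩ := Pi1C.StrictHensPoint.exists_lift_of_etale _ z W (cW V W) hz.symm
  exact ⟨t ≫ σ, by rw [Category.assoc, hσ, ht]⟩

/-- The main theorem for torsors. -/
theorem hasSectionOver (hV : Arch V) (G : Over (Spec (CommRingCat.of V))) [GrpObj G] (hG : Red.IsSemisimple G)
    (han : ∀ (i : Red.Gm (Spec (CommRingCat.of V)) ⟶ G) [IsMonHom i], ¬ Mono i)
    {X : Over (Spec (CommRingCat.of V))} (a : AlgGrp.Action G X)
    (ha : NonAbH1.IsTorsorFor Scheme.etalePrecoverage a)
    (hK : NonAbH1.HasSectionOver X (Spec.map (CommRingCat.ofHom (algebraMap V (FractionRing V))))) :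
    NonAbH1.HasSectionOver X (𝟙 _) := by
  obtain ⟨W, _, _, _, _, hSH⟩ := Groth.Agent.S0537.result V
  have : IsDomain W := SH.isDomain (V := V)
  have : ValuationRing W := SH.valuationRing (V := V)
  have hhW : HenselianLocalRing W := Hensel.IsStrictHenselization.henselian (R := V)
  have hsep : IsSepClosure (IsLocalRing.ResidueField V) (IsLocalRing.ResidueField W) :=
    Hensel.IsStrictHenselization.isSepClosure
  have hsc : IsSepClosed (IsLocalRing.ResidueField W) := hsep.sep_closed
  have hGr : Red.IsReductive G := K199.SubCor.isReductive_of_isSemisimple hG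
  have hGa : IsAffineHom G.hom := hGr.1
  have hXa : IsAffineHom X.hom :=
    isAffineHom_of_torsor ⟨ha.1, K553.FinConn.isLocallyTrivialFor_fppf_of_etale ha.2⟩
  let K := FractionRing V
  let L := FractionRing W
  obtain ⟨x₀, hx₀⟩ := hK
  obtain ⟨s, hs⟩ := exists_point (W := W) ha.2
  let φ : K →+* L := IsFractionRing.lift (A := V) (K := K) (L := L) (g := (algebraMap W L).comp (algebraMap V W))
    ((IsFractionRing.injective W L).comp (SH.injective (V := V)))
  have hφ : ∀ v : V, φ (algebraMap V K v) = algebraMap W L (algebraMap V W v) := fun v =>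
    IsFractionRing.lift_algebraMap _ v
  let x : Over.mk (Spec.map (CommRingCat.ofHom (algebraMap V K))) ⟶ X := Over.homMk x₀ hx₀
  let x' : oB V W W ⟶ X := Over.homMk s (by
    rw [hs]
    change _ = (Spec.map (𝟙 _) ≫ 𝟙 _) ≫ cW V W
    rw [Spec.map_id, Category.comp_id, Category.id_comp])
  let q : oB V W L ⟶ Over.mk (Spec.map (CommRingCat.ofHom (algebraMap V K))) :=
    Over.homMk (Spec.map (CommRingCat.ofHom φ)) (by
      change Spec.map _ ≫ Spec.map _ = (Spec.map _ ≫ 𝟙 _) ≫ Spec.map _
      rw [Category.comp_id, ← Spec.map_comp, ← Spec.map_comp]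
      congr 1
      ext v
      exact hφ v)
  have hq : ∀ (σ : W ≃ₐ[V] W) (l : Lift σ L), l.m ≫ q = q := by
    intro σ l
    ext1
    change Spec.map _ ≫ Spec.map _ = Spec.map _
    rw [← Spec.map_comp]
    congr 1
    ext y
    have h1 : l.s.comp φ = φ := by
      apply IsLocalization.ringHom_ext (nonZeroDivisors V)
      ext v
      change l.s (φ (algebraMap V K v)) = φ (algebraMap V K v)
      rw [hφ, l.hs, σ.commutes]
    exact congr($h1 y)
  have hst := stab ha.1 x x' q hq
  obtain ⟨g, hg⟩ := exists_integral (SH.arch (V := V) hV) G hG han _ hst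
  have h2 : q ≫ x = oI V W L ≫ sm a g x' := by
    rw [comp_sm, hg, sm_dif]
  refine Glue.exists_section (algebraMap V K) (IsFractionRing.injective V K) (algebraMap W L) φ
    (fun y w h => SH.exists_of_eq φ hφ y w h) X.hom x₀ (sm a g x').left hx₀ ?_
  exact congrArg (fun f => f.left) h2

end Main

/-- **Torsors under anisotropic semisimple groups over henselian valuation rings of rank one.** -/
theorem main (V : Type u) [CommRing V] [IsDomain V] [ValuationRing V] [HenselianLocalRing V] (hV : ringKrullDim V = 1)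
    (G : Over (Spec (CommRingCat.of V))) [GrpObj G] (hG : Red.IsSemisimple G)
    (han : ∀ (i : Red.Gm (Spec (CommRingCat.of V)) ⟶ G) [IsMonHom i], ¬ Mono i)
    (c : NonAbH1.H1Sch G Scheme.etalePrecoverage)
    (hc : NonAbH1.H1Sch.bcMap (Spec.map (CommRingCat.ofHom (algebraMap V (FractionRing V)))) G
      Scheme.etalePrecoverage c = 1) : c = 1 := by
  obtain ⟨P, rfl⟩ := K551.H1Cl.exists_cl c
  rw [K551.H1Cl.bcMap_cl_eq_one_iff] at hc
  rw [K551.H1Cl.cl_eq_one_iff]
  exact hasSectionOver (arch_of_dim hV.le) G hG han P.act P.isTorsor hc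

end K209.AnisoVal
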