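import Groth.Agent.NonAbH1.K209.SH
import Groth.Agent.NonAbH1.K551.H1Cl
import Groth.Agent.Pi1C.StrictHensPoint
import Groth.Agent.Sga3B.PinModel
import Groth.Agent.Sga3B.DSPts

/-!
# Rational and strictly integral points of a torsor over a valuation ring

`V` a valuation ring with fraction field `K`, `W` a strict henselization with fraction field `L`, `X` an étale torsor over `V`
under a group `G` with a `K`-point `x`.  There are `x' ∈ X(W)` and `h ∈ G(L)` with `h x' = x` in `X(L)`, and for all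
`σ ∈ Aut(W/V)` one has `σ(h) ∈ h G(W)`.
-/

set_option autoImplicit false
set_option linter.unusedSectionVars false

universe u

open CategoryTheory CategoryTheory.Limits MonoidalCategory CartesianMonoidalCategory MonObj GrpObj AlgebraicGeometry
open K551.Tors Groth.Agent.Sga3B Groth.Agent.Sga3B.PinMod Groth.Agent.Books.BorelOrb

namespace K209.Cocycle

variable {V W : Type u} [CommRing V] [CommRing W] [Algebra V W]

/-- `Spec W ⟶ Spec V` -/
noncomputable abbrev cW (V W : Type u) [CommRing V] [CommRing W] [Algebra V W] :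
    Spec (CommRingCat.of W) ⟶ Spec (CommRingCat.of V) := Spec.map (CommRingCat.ofHom (algebraMap V W))

/-- `Spec B` over `Spec V` for a `W`-algebra `B` -/
noncomputable abbrev oB (V W : Type u) [CommRing V] [CommRing W] [Algebra V W] (B : Type u) [CommRing B] [Algebra W B] :
    Over (Spec (CommRingCat.of V)) := (Over.map (cW V W)).obj (tB (𝟙 (Spec (CommRingCat.of W))) B)

/-- `Spec B ⟶ Spec W` over `Spec V` -/
noncomputable abbrev oI (V W : Type u) [CommRing V] [CommRing W] [Algebra V W] (B : Type u) [CommRing B] [Algebra W B] :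
    oB V W B ⟶ oB V W W := (Over.map (cW V W)).map (tMap (𝟙 _) (Algebra.ofId W B))

/-- morphisms `Spec B' ⟶ Spec B` over `Spec V` -/
noncomputable def oM {B B' : Type u} [CommRing B] [Algebra W B] [CommRing B'] [Algebra W B'] (φ : B →+* B')
    (hφ : ∀ v : V, φ (algebraMap W B (algebraMap V W v)) = algebraMap W B' (algebraMap V W v)) :
    oB V W B' ⟶ oB V W B :=
  Over.homMk (Spec.map (CommRingCat.ofHom φ)) (by
    change Spec.map _ ≫ (Spec.map _ ≫ 𝟙 _) ≫ Spec.map _ = (Spec.map _ ≫ 𝟙 _) ≫ Spec.map _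
    rw [Category.comp_id, Category.comp_id, ← Spec.map_comp, ← Spec.map_comp, ← Spec.map_comp]
    congr 1
    ext v
    exact hφ v)

/-- a family of lifts of an automorphism of `W` -/
structure Lift (σ : W ≃ₐ[V] W) (B : Type u) [CommRing B] [Algebra W B] where
  s : B →+* B
  hs : ∀ w : W, s (algebraMap W B w) = algebraMap W B (σ w)

/-- the morphism attached to a lift -/
noncomputable def Lift.m {σ : W ≃ₐ[V] W} {B : Type u} [CommRing B] [Algebra W B] (l : Lift σ B) :
    oB V W B ⟶ oB V W B := oM l.s (fun v => by rw [l.hs, σ.commutes])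

/-- the lift to `W` -/
def lW (σ : W ≃ₐ[V] W) : Lift σ W := ⟨(σ : W →+* W), fun w => rfl⟩

lemma m_oI {σ : W ≃ₐ[V] W} {B : Type u} [CommRing B] [Algebra W B] (l : Lift σ B) :
    l.m ≫ oI V W B = oI V W B ≫ (lW σ).m := by
  ext1
  change Spec.map _ ≫ Spec.map _ = Spec.map _ ≫ Spec.map _
  rw [← Spec.map_comp, ← Spec.map_comp]
  congr 1
  ext w
  exact l.hs w

/-- the lift to the fraction field -/
noncomputable def lL [IsDomain W] (σ : W ≃ₐ[V] W) (L : Type u) [Field L] [Algebra W L] [IsFractionRing W L] : Lift σ L where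
  s := IsFractionRing.lift (A := W) (K := L) (L := L) (g := (algebraMap W L).comp (σ : W →+* W))
    ((IsFractionRing.injective W L).comp σ.injective)
  hs w := IsFractionRing.lift_algebraMap _ w

variable {G X : Over (Spec (CommRingCat.of V))} [GrpObj G] {L : Type u} [Field L] [Algebra W L]

/-- the property of being stable modulo integral points -/
def Stab (h : oB V W L ⟶ G) : Prop :=
  ∀ (σ : W ≃ₐ[V] W) (l : Lift σ L), ∃ z : oB V W W ⟶ G, l.m ≫ h = h * (oI V W L ≫ z)

variable {K : Type u} [Field K] [Algebra V K]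

/-- The cocycle property. -/
theorem stab {a : AlgGrp.Action G X} (ha : NonAbH1.IsPseudoTorsorSch a)
    (x : Over.mk (Spec.map (CommRingCat.ofHom (algebraMap V K))) ⟶ X) (x' : oB V W W ⟶ X)
    (q : oB V W L ⟶ Over.mk (Spec.map (CommRingCat.ofHom (algebraMap V K))))
    (hq : ∀ (σ : W ≃ₐ[V] W) (l : Lift σ L), l.m ≫ q = q) :
    Stab (dif ha (q ≫ x) (oI V W L ≫ x')) := by
  intro σ l
  refine ⟨(dif ha ((lW σ).m ≫ x') x')⁻¹, ?_⟩
  rw [GrpObj.comp_inv, eq_mul_inv_iff_mul_eq]
  apply sm_injective ha (oI V W L ≫ x')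
  rw [mul_sm, ← comp_sm, sm_dif, sm_dif, ← Category.assoc, ← m_oI l, Category.assoc, ← comp_sm, sm_dif,
    ← Category.assoc, hq]

/-- Lifting a point of the special fibre to an integral point whose conjugate is integral. -/
def Q (h : oB V W L ⟶ G) [IsLocalRing W] (γ : Spec (CommRingCat.of (IsLocalRing.ResidueField W)) ⟶ G.left) : Prop :=
  ∃ g g' : oB V W W ⟶ G, (oI V W (IsLocalRing.ResidueField W) ≫ g).left = γ ∧
    oI V W L ≫ g' = h⁻¹ * (oI V W L ≫ g) * h

/-- The set of reductions is stable. -/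
theorem Q.stable [IsLocalRing W] {h : oB V W L ⟶ G} (hs : Stab h) {σ : W ≃ₐ[V] W} (l : Lift σ L)
    (l' : Lift σ (IsLocalRing.ResidueField W))
    {γ : Spec (CommRingCat.of (IsLocalRing.ResidueField W)) ⟶ G.left} (hγ : Q h γ) : Q h (l'.m.left ≫ γ) := by
  obtain ⟨g, g', hg, hg'⟩ := hγ
  obtain ⟨z, hz⟩ := hs σ l
  refine ⟨(lW σ).m ≫ g, z * ((lW σ).m ≫ g') * z⁻¹, ?_, ?_⟩
  · rw [← Category.assoc, ← m_oI l', Category.assoc, Over.comp_left, hg]
  · have h1 : h = (l.m ≫ h) * (oI V W L ≫ z)⁻¹ := by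
      rw [hz]
      group
    have h2 : oI V W L ≫ (lW σ).m ≫ g = l.m ≫ oI V W L ≫ g := by
      rw [← Category.assoc, ← m_oI l, Category.assoc]
    have h3 : oI V W L ≫ (lW σ).m ≫ g' = l.m ≫ oI V W L ≫ g' := by
      rw [← Category.assoc, ← m_oI l, Category.assoc]
    have h4 : l.m ≫ oI V W L ≫ g' = (l.m ≫ h)⁻¹ * (l.m ≫ oI V W L ≫ g) * (l.m ≫ h) := by
      rw [hg', MonObj.comp_mul, MonObj.comp_mul, GrpObj.comp_inv]
    rw [MonObj.comp_mul, MonObj.comp_mul, GrpObj.comp_inv, h3, h4, h2, hz]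
    group

end K209.Cocycle
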