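import Mathlib.RingTheory.Valuation.ValuationRing
import Mathlib.Data.Real.Embedding
import Mathlib.RingTheory.KrullDimension.Basic
import Groth.Agent.S1975

/-!
# Real valuations of valuation rings of rank one
-/

set_option autoImplicit false

universe u

open IsLocalRing

namespace K209.RealVal

/-- every element of the maximal ideal is topologically nilpotent -/
def Arch (W : Type*) [CommRing W] [IsLocalRing W] : Prop :=
  ∀ a b : W, a ∈ maximalIdeal W → b ≠ 0 → ∃ n : ℕ, b ∣ a ^ n

/-- The real valuation of an archimedean valuation ring. -/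
theorem exists_rho {W L : Type*} [CommRing W] [IsDomain W] [ValuationRing W] [Field L] [Algebra W L]
    [IsFractionRing W L] (h : Arch W) :
    ∃ ρ : Lˣ →* Multiplicative ℝ, ∀ x : Lˣ, 0 ≤ (ρ x).toAdd ↔ ∃ w : W, algebraMap W L w = x := by
  let Γ := ValuationRing.ValueGroup W L
  let v : Valuation L Γ := ValuationRing.valuation W L
  have hsurj : ∀ y : Γˣ, ∃ x : Lˣ, v x = y := by
    rintro ⟨⟨y⟩, z, h1, h2⟩
    have hy : y ≠ 0 := by
      rintro rfl
      have h3 : (0 : Γ) * z = 1 := h1
      rw [zero_mul] at h3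
      exact zero_ne_one h3
    exact ⟨Units.mk0 y hy, rfl⟩
  have hle : ∀ x : L, v x ≤ 1 ↔ ∃ w : W, algebraMap W L w = x := fun x =>
    ValuationRing.mem_integer_iff W L x
  have harch : MulArchimedean Γˣ := by
    refine ⟨fun x y hy => ?_⟩
    obtain ⟨α, hα⟩ := hsurj y
    obtain ⟨β, hβ⟩ := hsurj x
    -- the inverse of `α` is in the maximal ideal
    have h1 : v ((α⁻¹ : Lˣ) : L) < 1 := by
      rw [Units.val_inv_eq_inv_val, map_inv₀, hα]
      have : (1 : Γ) < y := by exact_mod_cast hy
      exact inv_lt_one_of_one_lt₀ this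
    obtain ⟨a, ha⟩ := (hle _).1 h1.le
    have ham : a ∈ maximalIdeal W := by
      rw [mem_maximalIdeal]
      intro hu
      obtain ⟨b, hb⟩ := hu.exists_right_inv
      have h2 : v (α : L) ≤ 1 := by
        rw [hle]
        refine ⟨b, ?_⟩
        have h3 := congrArg (algebraMap W L) hb
        rw [map_mul, map_one, ha] at h3
        rw [Units.val_inv_eq_inv_val] at h3
        have h4 : (α : L) ≠ 0 := α.ne_zero
        field_simp at h3
        exact h3
      rw [hα] at h2
      have h5 : (1 : Γ) < y := by exact_mod_cast hy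
      exact absurd h2 (not_le.2 h5)
    obtain ⟨c, b, hb, hcb⟩ := IsFractionRing.div_surjective W (β : L)
    have hb0 : b ≠ 0 := nonZeroDivisors.ne_zero hb
    obtain ⟨n, e, he⟩ := h a b ham hb0
    refine ⟨n, ?_⟩
    have h6 : v ((β : L) * ((α⁻¹ : Lˣ) : L) ^ n) ≤ 1 := by
      rw [hle]
      refine ⟨c * e, ?_⟩
      rw [← ha, ← hcb, ← map_pow, he, map_mul, map_mul]
      have : algebraMap W L b ≠ 0 := by
        rw [Ne, map_eq_zero_iff _ (IsFractionRing.injective W L)]
        exact hb0
      field_simp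
    have h7 : (x : Γ) ≤ (y : Γ) ^ n := by
      rw [map_mul, map_pow, Units.val_inv_eq_inv_val, map_inv₀, hα, hβ] at h6
      have hy0 : (0 : Γ) < (y : Γ) ^ n := by
        exact pow_pos (zero_lt_iff.2 y.ne_zero) n
      rw [inv_pow] at h6
      rwa [mul_inv_le_iff₀ hy0, one_mul] at h6
    exact_mod_cast h7
  obtain ⟨f, hf⟩ := Archimedean.exists_orderAddMonoidHom_real_injective (Additive Γˣ)
  have hfmono : StrictMono f := f.monotone'.strictMono_of_injective hf
  let vu : Lˣ →* Γˣ := Units.map (v : L →* Γ)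
  let g : Γˣ →* Multiplicative ℝ := (AddMonoidHom.toMultiplicativeRight (-f.toAddMonoidHom))
  refine ⟨g.comp vu, fun x => ?_⟩
  rw [← hle]
  have h1 : ((g.comp vu) x).toAdd = -f (Additive.ofMul (vu x)) := rfl
  rw [h1, neg_nonneg, ← map_zero f, hfmono.le_iff_le]
  change vu x ≤ 1 ↔ _
  rw [← Units.val_le_val]
  rfl

/-- a valuation ring of dimension one is archimedean -/
theorem arch_of_dim {V : Type*} [CommRing V] [IsDomain V] [IsLocalRing V] (hV : ringKrullDim V ≤ 1) : Arch V := by
  intro a b ha hb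
  have h1 : a ∈ (Ideal.span {b}).radical := by
    rw [Ideal.radical_eq_sInf, Submodule.mem_sInf]
    rintro p ⟨hbp, hp⟩
    have hp0 : p ≠ ⊥ := by
      rintro rfl
      apply hb
      have := hbp (Ideal.mem_span_singleton_self b)
      simpa using this
    have : Ring.KrullDimLE 1 V := (Ring.krullDimLE_iff).2 hV
    have hmax : Ideal.IsMaximal p := Ideal.IsPrime.isMaximal_of_ne_bot hp hp0
    rw [IsLocalRing.eq_maximalIdeal hmax]
    exact ha
  obtain ⟨n, hn⟩ := h1
  exact ⟨n, Ideal.mem_span_singleton.1 hn⟩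

end K209.RealVal
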