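import Groth.Agent.NonAbH1.K209.RealVal
import Groth.Agent.S0537
import Groth.Agent.S0539
import Groth.Agent.Sga7.H516.SHBasic

/-!
# Strict henselizations of valuation rings
-/

set_option autoImplicit false

universe u

open IsLocalRing

namespace K209.SH

open K209.RealVal

variable {V W : Type u} [CommRing V] [IsDomain V] [ValuationRing V] [CommRing W] [IsLocalRing W] [Algebra V W]
  [IsLocalHom (algebraMap V W)]

theorem isDomain [h : Hensel.IsStrictHenselization V W] : IsDomain W :=
  (Groth.Agent.S1975.result V W (Or.inr h)).1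

theorem valuationRing [IsDomain W] [h : Hensel.IsStrictHenselization V W] : ValuationRing W :=
  (Groth.Agent.S1975.result V W (Or.inr h)).2.1 inferInstance

theorem injective [h : Hensel.IsStrictHenselization V W] : Function.Injective (algebraMap V W) :=
  (Groth.Agent.S1975.result V W (Or.inr h)).2.2.1

theorem exists_eq [h : Hensel.IsStrictHenselization V W] (s : W) (hs : s ≠ 0) :
    ∃ (a : V) (u : Wˣ), s = u * algebraMap V W a :=
  (Groth.Agent.S1975.result V W (Or.inr h)).2.2.2 s hs

theorem arch [Hensel.IsStrictHenselization V W] (hV : Arch V) : Arch W := by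
  intro a b ha hb
  by_cases ha0 : a = 0
  · exact ⟨1, by rw [ha0, pow_one]; exact dvd_zero b⟩
  obtain ⟨α, u, rfl⟩ := exists_eq (V := V) a ha0
  obtain ⟨β, w, rfl⟩ := exists_eq (V := V) b hb
  have hβ : β ≠ 0 := by
    rintro rfl
    simp at hb
  have hα : α ∈ maximalIdeal V := by
    rw [mem_maximalIdeal] at ha ⊢
    intro hα
    exact ha (u.isUnit.mul (hα.map _))
  obtain ⟨n, hn⟩ := hV α β hα hβ
  refine ⟨n, ?_⟩
  rw [mul_pow, ← map_pow]
  refine (Units.mul_left_dvd.2 (map_dvd (algebraMap V W) hn)).trans (dvd_mul_left _ _)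

/-- `W ∩ K = V` -/
theorem exists_of_eq [IsDomain W] [Hensel.IsStrictHenselization V W] {K L : Type*} [Field K] [Algebra V K]
    [IsFractionRing V K] [Field L] [Algebra W L] [IsFractionRing W L] (φ : K →+* L)
    (hφ : ∀ v : V, φ (algebraMap V K v) = algebraMap W L (algebraMap V W v)) (x : K) (w : W)
    (h : φ x = algebraMap W L w) : ∃ v : V, algebraMap V K v = x := by
  obtain ⟨a, b, hb, rfl⟩ := IsFractionRing.div_surjective V x
  have hb0 : b ≠ 0 := nonZeroDivisors.ne_zero hb
  have hbK : algebraMap V K b ≠ 0 := by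
    rw [Ne, map_eq_zero_iff _ (IsFractionRing.injective V K)]
    exact hb0
  have h1 : algebraMap V W a = algebraMap V W b * w := by
    apply IsFractionRing.injective W L
    rw [map_mul, ← h, ← hφ, ← hφ, ← map_mul]
    congr 1
    field_simp
  rcases ValuationRing.dvd_total b a with ⟨c, hc⟩ | ⟨c, hc⟩
  · exact ⟨c, by rw [hc, map_mul]; field_simp⟩
  · by_cases ha0 : a = 0
    · exact ⟨0, by rw [ha0, map_zero, zero_div]⟩
    have h2 : IsUnit (algebraMap V W c) := by
      refine IsUnit.of_mul_eq_one w ?_
      have h3 : algebraMap V W a * (algebraMap V W c * w) = algebraMap V W a * 1 := by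
        rw [← mul_assoc, ← map_mul, ← hc, ← h1, mul_one]
      refine mul_left_cancel₀ ?_ h3
      rw [Ne, map_eq_zero_iff _ (injective (V := V) (W := W))]
      exact ha0
    have h4 : IsUnit c := isUnit_of_map_unit _ _ h2
    obtain ⟨d, hd⟩ := h4.exists_right_inv
    refine ⟨d, ?_⟩
    rw [eq_div_iff hbK, ← map_mul]
    congr 1
    rw [hc, mul_comm, mul_assoc, hd, mul_one]

end K209.SH
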