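import Mathlib.LinearAlgebra.FreeModule.PID
import Mathlib.Topology.Instances.Real.Lemmas
import Mathlib.Topology.Algebra.Order.Archimedean
import Mathlib.Algebra.Module.Submodule.Range
import Mathlib.LinearAlgebra.Finsupp.LinearCombination
import Mathlib.LinearAlgebra.Dimension.Free
import Mathlib.LinearAlgebra.Dimension.FreeAndStrongRankCondition
import Mathlib.Algebra.Module.Torsion.Free
import Mathlib.LinearAlgebra.FreeModule.Finite.Basic
import Mathlib.LinearAlgebra.InvariantBasisNumber
import Mathlib.RingTheory.PrincipalIdealDomain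
import Mathlib.Algebra.EuclideanDomain.Int

/-!
# Integral functionals with prescribed signs

`ℓ : M → ℝ` additive, `M` a finitely generated abelian group, `F ⊆ M` finite.  There is an integral functional on `M` with the
same signs as `ℓ` on `F`.
-/

set_option autoImplicit false

namespace K209.Sign

open Module

/-- Integral functionals with prescribed signs. -/
theorem exists_nu {M : Type*} [AddCommGroup M] [Module.Finite ℤ M] (l : M →+ ℝ) (F : Finset M) :
    ∃ ν : M →+ ℤ, ∀ m ∈ F, (0 < l m → 0 < ν m) ∧ (l m < 0 → ν m < 0) ∧ (l m = 0 → ν m = 0) := by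
  classical
  let L : M →ₗ[ℤ] ℝ := l.toIntLinearMap
  let N := LinearMap.range L
  have hfin : Module.Finite ℤ N := inferInstance
  have htf : Module.IsTorsionFree ℤ N := inferInstance
  have hfree : Module.Free ℤ N := Module.free_of_finite_type_torsion_free'
  let s := Module.finrank ℤ N
  let b : Basis (Fin s) ℤ N := Module.finBasis ℤ N
  let L' : M →ₗ[ℤ] N := L.rangeRestrict
  let y : Fin s → M → ℤ := fun j m => b.repr (L' m) j
  have hy : ∀ m, ∑ j, (y j m : ℝ) * (b j : ℝ) = l m := by
    intro m
    have h1 := congrArg (fun x : N => (x : ℝ)) (b.sum_repr (L' m))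
    simp only [Submodule.coe_sum, Submodule.coe_smul, zsmul_eq_mul] at h1
    exact h1
  let f : M → (Fin s → ℝ) → ℝ := fun m x => ∑ j, (y j m : ℝ) * x j
  have hf : ∀ m, Continuous (f m) := fun m => by
    refine continuous_finsetSum _ fun j _ => ?_
    exact continuous_const.mul (continuous_apply j)
  let U : Set (Fin s → ℝ) := {x | ∀ m ∈ F, (0 < l m → 0 < f m x) ∧ (l m < 0 → f m x < 0)}
  have hU : IsOpen U := by
    have : U = ⋂ m ∈ F, ({x | 0 < l m → 0 < f m x} ∩ {x | l m < 0 → f m x < 0}) := by
      ext x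
      simp [U]
    rw [this]
    refine isOpen_biInter_finset fun m _ => ?_
    refine IsOpen.inter ?_ ?_
    · by_cases h : 0 < l m
      · simp only [h, true_imp_iff]
        exact isOpen_lt continuous_const (hf m)
      · simp only [h, false_imp_iff]
        exact isOpen_const
    · by_cases h : l m < 0
      · simp only [h, true_imp_iff]
        exact isOpen_lt (hf m) continuous_const
      · simp only [h, false_imp_iff]
        exact isOpen_const
  have hb : (fun j => (b j : ℝ)) ∈ U := by
    intro m _
    have : f m (fun j => (b j : ℝ)) = l m := hy m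
    rw [this]
    exact ⟨id, id⟩
  have hd : DenseRange (fun (q : Fin s → ℚ) (j : Fin s) => (q j : ℝ)) :=
    DenseRange.piMap fun _ => Rat.denseRange_cast
  obtain ⟨q, hq⟩ := hd.exists_mem_open hU ⟨_, hb⟩
  let d : ℕ := ∏ j, (q j).den
  have hd0 : 0 < d := Finset.prod_pos fun j _ => (q j).den_pos
  have hdq : ∀ j, ∃ n : ℤ, (n : ℝ) = (d : ℝ) * (q j : ℝ) := by
    intro j
    obtain ⟨c, hc⟩ : (q j).den ∣ d := Finset.dvd_prod_of_mem _ (Finset.mem_univ j)
    refine ⟨c * (q j).num, ?_⟩
    have h1 : ((q j).den : ℝ) * (q j : ℝ) = (q j).num := by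
      have := Rat.den_mul_eq_num (q j)
      exact_mod_cast this
    rw [hc]
    push_cast
    rw [← h1]
    ring
  choose n hn using hdq
  let ν : M →+ ℤ := ∑ j, (n j) • ((b.coord j ∘ₗ L').toAddMonoidHom)
  have hν : ∀ m, (ν m : ℝ) = (d : ℝ) * f m (fun j => (q j : ℝ)) := by
    intro m
    have h1 : ν m = ∑ j, n j * y j m := by
      simp [ν, y]
    rw [h1]
    push_cast
    simp only [f]
    rw [Finset.mul_sum]
    refine Finset.sum_congr rfl fun j _ => ?_
    rw [hn j]
    ring
  have hdR : (0 : ℝ) < d := by exact_mod_cast hd0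
  refine ⟨ν, fun m hm => ⟨fun h => ?_, fun h => ?_, fun h => ?_⟩⟩
  · have h1 : (0 : ℝ) < ν m := by
      rw [hν]
      exact mul_pos hdR ((hq m hm).1 h)
    exact_mod_cast h1
  · have h1 : (ν m : ℝ) < 0 := by
      rw [hν]
      exact mul_neg_of_pos_of_neg hdR ((hq m hm).2 h)
    exact_mod_cast h1
  · have h1 : L' m = 0 := by
      apply Subtype.ext
      exact h
    simp [ν, h1]

end K209.Sign
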