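import Groth.Agent.NonAbH1.K209.RealVal
import Groth.Agent.NonAbH1.K209.Sign
import Groth.Agent.RedSub.H664.Weights
import Groth.Agent.Sga3B.PinModel
import Groth.Agent.Sga3B.Chart

/-!
# Integral points conjugated by a torus element, over a valuation ring of rank one

`W` a valuation ring of rank one with fraction field `L` and residue field `κ`, `G` an affine group of finite type over `W`,
`J : D(M) ⟶ G` a homomorphism and `t ∈ D(M)(L)`.  There is an integral cocharacter `ν` such that the elements of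
`G(W) ∩ J(t) G(W) J(t)⁻¹` reduce into `P_G(ν)(κ)` and `P_G(ν)(W) ⊆ J(t) G(W) J(t)⁻¹`.
-/

set_option autoImplicit false
set_option linter.unusedSectionVars false

universe u

open CategoryTheory MonoidalCategory CartesianMonoidalCategory MonObj GrpObj AlgebraicGeometry Limits
open scoped LaurentPolynomial Polynomial TensorProduct
open WithConv
open Groth.Agent.Books.AffBridge Groth.Agent.Books.DynBasic Groth.Agent.Books.DynLim
open Groth.Agent.Sga3B Groth.Agent.Sga3B.Parab Groth.Agent.Sga3B.Parab.Chart998 Groth.Agent.Sga3B.RG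
open Groth.Agent.Sga3B.Parab.OrbM156 Groth.Agent.Sga3B.Cell Groth.Agent.Sga3B.PinMod

namespace K209.TorWt

open K209.RealVal K209.Sign

variable {W : Type u} [CommRing W] [IsDomain W] [ValuationRing W] {L : Type u} [Field L] [Algebra W L]
  [IsFractionRing W L]

/-- Functionals attached to a torus element. -/
theorem exists_nu_torus (hW : Arch W) {M : Type} [AddCommGroup M] [Module.Finite ℤ M] (t : TPt M L)
    (F : Finset (Multiplicative M)) :
    ∃ ν : M →+ ℤ,
      (∀ m ∈ F, ν m.toAdd < 0 → ∃ w ∈ IsLocalRing.maximalIdeal W, algebraMap W L w = t m) ∧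
      (∀ m ∈ F, 0 ≤ ν m.toAdd → ∃ w : W, algebraMap W L w = ((t m)⁻¹ : Lˣ)) ∧
      (ν = 0 → ∃ t' : TPt M W, ∀ m, (algebraMap W L (t' m) : L) = t m) := by
  classical
  obtain ⟨ρ, hρ⟩ := exists_rho (L := L) hW
  let l : M →+ ℝ :=
    { toFun := fun m => -((ρ (t (Multiplicative.ofAdd m))).toAdd)
      map_zero' := by simp
      map_add' := fun m n => by
        rw [ofAdd_add, map_mul, map_mul, toAdd_mul]
        ring }
  obtain ⟨s, hs⟩ := (Module.Finite.fg_top : (⊤ : Submodule ℤ M).FG)
  obtain ⟨ν, hν⟩ := exists_nu l (F.image Multiplicative.toAdd ∪ s)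
  have key : ∀ m ∈ F, (0 < l m.toAdd → 0 < ν m.toAdd) ∧ (l m.toAdd < 0 → ν m.toAdd < 0) ∧
      (l m.toAdd = 0 → ν m.toAdd = 0) := fun m hm =>
    hν _ (Finset.mem_union_left _ (Finset.mem_image_of_mem _ hm))
  have hl : ∀ m : Multiplicative M, l m.toAdd = -((ρ (t m)).toAdd) := fun m => rfl
  refine ⟨ν, fun m hm h => ?_, fun m hm h => ?_, fun h => ?_⟩
  · have h1 : l m.toAdd < 0 := by
      by_contra hc
      rcases lt_or_eq_of_le (not_lt.1 hc) with h2 | h2
      · have := (key m hm).1 h2
        omega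
      · have := (key m hm).2.2 h2.symm
        omega
    rw [hl] at h1
    have h2 : 0 < (ρ (t m)).toAdd := by linarith
    obtain ⟨w, hw⟩ := (hρ (t m)).1 h2.le
    refine ⟨w, ?_, hw⟩
    rw [IsLocalRing.mem_maximalIdeal]
    intro hu
    obtain ⟨w', hw'⟩ := hu.exists_right_inv
    have h3 : (0 : ℝ) ≤ (ρ (t m)⁻¹).toAdd := by
      rw [hρ]
      refine ⟨w', ?_⟩
      rw [Units.val_inv_eq_inv_val, ← hw]
      refine eq_inv_of_mul_eq_one_right ?_
      rw [← map_mul, hw', map_one]
    rw [map_inv, toAdd_inv] at h3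
    linarith
  · have h1 : 0 ≤ l m.toAdd := by
      by_contra hc
      have := (key m hm).2.1 (not_le.1 hc)
      omega
    rw [hl] at h1
    have h3 : (0 : ℝ) ≤ (ρ (t m)⁻¹).toAdd := by
      rw [map_inv, toAdd_inv]
      linarith
    exact (hρ _).1 h3
  · subst h
    have h0 : ∀ m ∈ s, l m = 0 := by
      intro m hm
      have h1 := hν m (Finset.mem_union_right _ hm)
      rcases lt_trichotomy (l m) 0 with h2 | h2 | h2
      · have := h1.2.1 h2
        simp at this
      · exact h2
      · have := h1.1 h2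
        simp at this
    have h1 : ∀ m, l m = 0 := by
      intro m
      have h2 : m ∈ Submodule.span ℤ (s : Set M) := by rw [hs]; trivial
      induction h2 using Submodule.span_induction with
      | mem x hx => exact h0 x hx
      | zero => exact map_zero l
      | add x y _ _ hx hy => rw [map_add, hx, hy, add_zero]
      | smul a x _ hx => rw [map_zsmul, hx, smul_zero]
    have h2 : ∀ m : Multiplicative M, (ρ (t m)).toAdd = 0 := by
      intro m
      have := h1 m.toAdd
      rw [hl] at this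
      linarith
    -- units of `W`
    have h3 : ∀ m : Multiplicative M, ∃ w : Wˣ, Units.map (algebraMap W L : W →* L) w = t m := by
      intro m
      obtain ⟨w, hw⟩ := (hρ (t m)).1 (h2 m).ge
      obtain ⟨w', hw'⟩ := (hρ (t m)⁻¹).1 (by rw [map_inv, toAdd_inv, h2, neg_zero])
      have h4 : w * w' = 1 := by
        apply IsFractionRing.injective W L
        rw [map_mul, hw, hw', map_one]
        exact Units.mul_inv _
      refine ⟨⟨w, w', h4, by rw [mul_comm, h4]⟩, Units.ext hw⟩
    have hinj : Function.Injective (Units.map (algebraMap W L : W →* L)) :=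
      Units.map_injective (IsFractionRing.injective W L)
    choose f hf using h3
    refine ⟨MonoidHom.mk' f (fun a b => hinj (by rw [hf, map_mul, map_mul, hf, hf])), fun m => ?_⟩
    exact congrArg Units.val (hf m)

section Pts

variable {G : Over (Spec (CommRingCat.of W))} [GrpObj G] {M : Type} [AddCommGroup M]
  (J : Red.DS (Spec (CommRingCat.of W)) M ⟶ G) [IsMonHom J]

/-- the point `J(t)` -/
noncomputable def jt {B : Type u} [CommRing B] [Algebra W B] (t : TPt M B) : tB (𝟙 (Spec (CommRingCat.of W))) B ⟶ G :=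
  DSPts.dsEquiv (tB (𝟙 (Spec (CommRingCat.of W))) B) M (chΓ (𝟙 _) t) ≫ J

variable {A : Type u} [CommRing A] [HopfAlgebra W A]
  (e : Red.bc (𝟙 (Spec (CommRingCat.of W))) G ≅ SpecOver W A) [IsMonHom e.hom]

/-- points of `G` with values in `B` -/
noncomputable def pB (B : Type u) [CommRing B] [Algebra W B] (g : A →ₐ[W] B) :
    tB (𝟙 (Spec (CommRingCat.of W))) B ⟶ G := pt e rfl g

lemma pB_bijective (B : Type u) [CommRing B] [Algebra W B] : Function.Bijective (pB e B) :=
  pt_bijective e rfl

lemma tMap_pB {B C : Type u} [CommRing B] [Algebra W B] [CommRing C] [Algebra W C] (φ : B →ₐ[W] C)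
    (g : A →ₐ[W] B) : tMap (𝟙 _) φ ≫ pB e B g = pB e C (φ.comp g) :=
  comp_pt e rfl rfl φ (tMap (𝟙 _) φ) rfl g

lemma jt_eq {B : Type u} [CommRing B] [Algebra W B] (t : TPt M B) :
    jt J t = pB e B (ConjGrade.tau (piB J e) ((Units.coeHom B).comp t)).ofConv :=
  (pt_tau J e rfl ((Units.coeHom B).comp t)).symm

lemma pB_conj {B : Type u} [CommRing B] [Algebra W B] (t : TPt M B) (g : A →ₐ[W] B) :
    (jt J t)⁻¹ * pB e B g * jt J t =
      pB e B (ConjGrade.tau (piB J e) ((Units.coeHom B).comp t⁻¹) * toConv g *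
        (ConjGrade.tau (piB J e) ((Units.coeHom B).comp t⁻¹))⁻¹).ofConv := by
  have h1 : ConjGrade.tau (piB J e) ((Units.coeHom B).comp t⁻¹) *
      ConjGrade.tau (piB J e) ((Units.coeHom B).comp t) = 1 := by
    rw [← map_mul]
    have : (Units.coeHom B).comp t⁻¹ * (Units.coeHom B).comp t = 1 := by
      ext m
      simp
    rw [this, map_one]
  have h2 : (ConjGrade.tau (piB J e) ((Units.coeHom B).comp t⁻¹))⁻¹ =
      ConjGrade.tau (piB J e) ((Units.coeHom B).comp t) := inv_eq_of_mul_eq_one_right h1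
  have h3 : ConjGrade.tau (piB J e) ((Units.coeHom B).comp t⁻¹) =
      (ConjGrade.tau (piB J e) ((Units.coeHom B).comp t))⁻¹ := eq_inv_of_mul_eq_one_left h1
  rw [h2, h3, jt_eq J e]
  have h4 : ∀ x : WithConv (A →ₐ[W] B), pB e B x.ofConv = ptEquiv e rfl x := fun x => rfl
  rw [h4, h4, h4, map_mul, map_mul, map_inv]

lemma conj_apply (t : TPt M L) {g g' : A →ₐ[W] W} (h : tMap (𝟙 _) (Algebra.ofId W L) ≫ pB e W g' =
      (jt J t)⁻¹ * (tMap (𝟙 _) (Algebra.ofId W L) ≫ pB e W g) * jt J t) {m : Multiplicative M} {a : A}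
    (ha : a ∈ ConjGrade.gr (piB J e) m) :
    algebraMap W L (g' a) = algebraMap W L (g a) * ((t m)⁻¹ : Lˣ) := by
  rw [tMap_pB, tMap_pB, pB_conj] at h
  have h1 := DFunLike.congr_fun ((pB_bijective e L).1 h) a
  rw [ConjGrade.conj_apply_of_mem _ ha] at h1
  exact h1

/-- the submonoid of the characters which are non-negative on `ν` -/
def tnu (ν : M →+ ℤ) : Submonoid (Multiplicative M) where
  carrier := {m | 0 ≤ ν m.toAdd}
  mul_mem' := fun {a b} ha hb => by
    simp only [Set.mem_ofPred_eq, toAdd_mul, map_add] at *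
    omega
  one_mem' := by simp

/-- the submonoid of the characters whose inverse is integral on `t` -/
def tinv (t : TPt M L) : Submonoid (Multiplicative M) where
  carrier := {m | ∃ w : W, algebraMap W L w = ((t m)⁻¹ : Lˣ)}
  mul_mem' := by
    rintro a b ⟨w, hw⟩ ⟨w', hw'⟩
    exact ⟨w * w', by rw [map_mul, hw, hw', map_mul, _root_.mul_inv, Units.val_mul]⟩
  one_mem' := ⟨1, by simp⟩

/-- **Integral points conjugated by a torus element.** -/
theorem torus_main [IsAffineHom G.hom] [LocallyOfFiniteType G.hom] [Module.Finite ℤ M] (hW : Arch W) (t : TPt M L) :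
    ∃ ν : M →+ ℤ,
      (∀ g g' : tB (𝟙 (Spec (CommRingCat.of W))) W ⟶ G, tMap (𝟙 _) (Algebra.ofId W L) ≫ g' =
        (jt J t)⁻¹ * (tMap (𝟙 _) (Algebra.ofId W L) ≫ g) * jt J t →
        LimEx (lamN J ν) (tMap (𝟙 _) (Algebra.ofId W (IsLocalRing.ResidueField W)) ≫ g)) ∧
      (∀ g : tB (𝟙 (Spec (CommRingCat.of W))) W ⟶ G, LimEx (lamN J ν) g →
        ∃ g' : tB (𝟙 (Spec (CommRingCat.of W))) W ⟶ G, tMap (𝟙 _) (Algebra.ofId W L) ≫ g' =
          (jt J t)⁻¹ * (tMap (𝟙 _) (Algebra.ofId W L) ≫ g) * jt J t) ∧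
      (ν = 0 → ∃ t' : TPt M W, ∀ m, (algebraMap W L (t' m) : L) = t m) := by
  obtain ⟨A, _, _, e, he⟩ := Rep998.exists_chart (G := G) (𝟙 (Spec (CommRingCat.of W)))
  have hft : Algebra.FiniteType W A := by
    have h0 : LocallyOfFiniteType (Spec.map (CommRingCat.ofHom (algebraMap W A))) ↔ _ :=
      HasRingHomProperty.Spec_iff (P := @LocallyOfFiniteType)
    refine (h0.trans RingHom.finiteType_algebraMap).1 ?_
    change LocallyOfFiniteType (SpecOver W A).hom
    have h1 : LocallyOfFiniteType (Red.bc (𝟙 (Spec (CommRingCat.of W))) G).hom := by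
      have : (Red.bc (𝟙 (Spec (CommRingCat.of W))) G).hom =
        pullback.snd G.hom (𝟙 (Spec (CommRingCat.of W))) := rfl
      rw [this]
      infer_instance
    have h2 : (SpecOver W A).hom = e.inv.left ≫ (Red.bc (𝟙 (Spec (CommRingCat.of W))) G).hom :=
      (Over.w e.inv).symm
    rw [h2]
    infer_instance
  obtain ⟨F, hF⟩ := exists_finset J e
  obtain ⟨ν, h1, h2, h3⟩ := exists_nu_torus hW t F
  refine ⟨ν, fun g g' hg => ?_, fun g hg => ?_, h3⟩
  · obtain ⟨g, rfl⟩ := (pB_bijective e W).2 g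
    obtain ⟨g', rfl⟩ := (pB_bijective e W).2 g'
    rw [tMap_pB]
    refine (limEx_lamN_iff J e rfl ν _).2 ?_
    intro m hm a ha
    refine hF (tnu ν) (IsLocalRing.ResidueField W) _ (fun m hm hmT a ha => ?_) m (fun h => ?_) a ha
    · have hm' : ν m.toAdd < 0 := not_le.1 hmT
      obtain ⟨w, hw, hwt⟩ := h1 m hm hm'
      have h4 := conj_apply J e t hg ha
      have h5 : g a = g' a * w := by
        apply IsFractionRing.injective W L
        rw [map_mul, h4, hwt, _root_.mul_assoc, Units.inv_mul, _root_.mul_one]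
      change IsLocalRing.residue W (g a) = 0
      rw [IsLocalRing.residue_eq_zero_iff, h5]
      exact Ideal.mul_mem_left _ _ hw
    · exact absurd h (not_le.2 hm)
  · obtain ⟨g, rfl⟩ := (pB_bijective e W).2 g
    have h4 := (limEx_lamN_iff J e rfl ν g).1 hg
    have h5 := hF (tinv (W := W) t) W g (fun m hm hmT a ha => by
      refine h4 m ?_ a ha
      by_contra hc
      exact hmT (h2 m hm (not_lt.1 hc)))
    let x : A →ₐ[W] L := (ConjGrade.tau (piB J e) ((Units.coeHom L).comp t⁻¹) *
      toConv ((Algebra.ofId W L).comp g) * (ConjGrade.tau (piB J e) ((Units.coeHom L).comp t⁻¹))⁻¹).ofConv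
    have hx : ∀ a, x a ∈ (Algebra.ofId W L).range := by
      intro a
      refine ConjGrade.induction_gr (piB J e) ?_ ?_ ?_ a
      · rw [map_zero]; exact zero_mem _
      · intro a b ha hb
        rw [map_add]
        exact add_mem ha hb
      · intro m a ha
        have h6 : x a = algebraMap W L (g a) * ((t m)⁻¹ : Lˣ) := ConjGrade.conj_apply_of_mem _ ha _ _
        rw [h6]
        by_cases hm : m ∈ tinv (W := W) t
        · obtain ⟨w, hw⟩ := hm
          rw [← hw, ← map_mul]
          exact ⟨_, rfl⟩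
        · rw [h5 m hm a ha, map_zero, zero_mul]
          exact zero_mem _
    let φ : A →ₐ[W] W := ((AlgEquiv.ofInjective (Algebra.ofId W L) (IsFractionRing.injective W L)).symm :
      _ →ₐ[W] _).comp (x.codRestrict _ hx)
    refine ⟨pB e W φ, ?_⟩
    rw [tMap_pB, tMap_pB, pB_conj]
    congr 1
    ext1 a
    have h7 := (AlgEquiv.ofInjective (Algebra.ofId W L) (IsFractionRing.injective W L)).apply_symm_apply
      (x.codRestrict _ hx a)
    exact congrArg Subtype.val h7

end Pts

end K209.TorWt
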